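import Mathlib
import Groth.Prelude.Def_FSch3
import Groth.Agent.MatlisLib.Change

/-! Completions along a quasi-finite local homomorphism. -/

set_option autoImplicit false
set_option maxHeartbeats 1000000
universe u

namespace Groth.Agent.ComplFinLib

open IsLocalRing

variable {S T : Type u} [CommRing S] [CommRing T]

theorem evalₐ_eq_of_le {I : Ideal S} {i j : ℕ} (hij : i ≤ j) (x : AdicCompletion I S) (a : S)
    (ha : AdicCompletion.evalₐ I j x = Ideal.Quotient.mk _ a) :
    AdicCompletion.evalₐ I i x = Ideal.Quotient.mk _ a := by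
  obtain ⟨y, rfl⟩ := AdicCompletion.mk_surjective I S x
  rw [AdicCompletion.evalₐ_mk] at ha ⊢
  rw [Ideal.Quotient.eq] at ha ⊢
  have hy := y.2 hij
  rw [SModEq.sub_mem, smul_eq_mul, Ideal.mul_top] at hy
  rw [show y.val i - a = (y.val i - y.val j) + (y.val j - a) by ring]
  exact add_mem hy (Ideal.pow_le_pow_right hij ha)

theorem evalₐ_complMap {I : Ideal S} {K : Ideal T} {g : S →+* T} (h : I.map g ≤ K) (n : ℕ) (x : AdicCompletion I S)
    (a : S) (ha : AdicCompletion.evalₐ I n x = Ideal.Quotient.mk _ a) :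
    AdicCompletion.evalₐ K n (FSch.complMap I K g h x) = Ideal.Quotient.mk _ (g a) := by
  have h0 : AdicCompletion.evalₐ K n (FSch.complMap I K g h x) =
      Ideal.quotientMap (K ^ n) g (FSch.pow_le_comap_pow_of_map_le I K g h n) (AdicCompletion.evalₐ I n x) := by
    unfold FSch.complMap
    apply AdicCompletion.evalₐ_liftRingHom
    intro i j hij
    refine RingHom.ext fun z => ?_
    obtain ⟨b, hb⟩ := Ideal.Quotient.mk_surjective (AdicCompletion.evalₐ I j z)
    simp only [RingHom.coe_comp, Function.comp_apply, AlgHom.toRingHom_eq_coe, AlgHom.coe_toRingHom]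
    rw [evalₐ_eq_of_le hij z b hb.symm, ← hb, Ideal.quotientMap_mk, Ideal.quotientMap_mk]
    rfl
  rw [h0, ha, Ideal.quotientMap_mk]

theorem exists_lift (I : Ideal S) (a : ℕ → S) (h : ∀ k, a (k + 1) - a k ∈ I ^ k) :
    ∃ x : AdicCompletion I S, ∀ k, AdicCompletion.evalₐ I k x = Ideal.Quotient.mk _ (a k) := by
  have hcau : AdicCompletion.IsAdicCauchy I S a := by
    intro i j hij
    rw [SModEq.sub_mem, smul_eq_mul, Ideal.mul_top, ← neg_sub]
    refine (I ^ i).neg_mem ?_
    induction j, hij using Nat.le_induction with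
    | base => rw [sub_self]; exact zero_mem _
    | succ j hij ih =>
      rw [show a (j + 1) - a i = (a (j + 1) - a j) + (a j - a i) by ring]
      exact add_mem (Ideal.pow_le_pow_right hij (h j)) ih
  exact ⟨AdicCompletion.mk I S ⟨a, hcau⟩, fun k => AdicCompletion.evalₐ_mk I k _⟩

theorem bijective_complMap_id {J n : Ideal S} (h : J.map (RingHom.id S) ≤ n) (N : ℕ) (hN : n ^ N ≤ J) :
    Function.Bijective (FSch.complMap J n (RingHom.id S) h) := by
  have hle : J ≤ n := by rwa [Ideal.map_id] at h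
  have hpow : ∀ k, n ^ ((N + 1) * k) ≤ J ^ k := fun k => by
    rw [pow_mul]; exact Ideal.pow_right_mono ((Ideal.pow_le_pow_right N.le_succ).trans hN) k
  have hk : ∀ k, k ≤ (N + 1) * k := fun k => Nat.le_mul_of_pos_left k N.succ_pos
  refine ⟨(injective_iff_map_eq_zero _).2 fun x hx => ?_, fun y => ?_⟩
  · refine AdicCompletion.ext_evalₐ fun k => ?_
    obtain ⟨a, ha⟩ := Ideal.Quotient.mk_surjective (AdicCompletion.evalₐ J ((N + 1) * k) x)
    have h1 := evalₐ_complMap h _ x a ha.symm
    rw [hx, map_zero, eq_comm, Ideal.Quotient.eq_zero_iff_mem, RingHom.id_apply] at h1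
    rw [map_zero, evalₐ_eq_of_le (hk k) x a ha.symm, Ideal.Quotient.eq_zero_iff_mem]
    exact hpow k h1
  · choose a ha using fun j => Ideal.Quotient.mk_surjective (AdicCompletion.evalₐ n j y)
    obtain ⟨x, hx⟩ := exists_lift J (fun k => a ((N + 1) * k)) fun k => by
      refine hpow k ?_
      rw [← Ideal.Quotient.eq, ha, ← evalₐ_eq_of_le (Nat.mul_le_mul_left _ k.le_succ) y _ (ha _).symm]
    refine ⟨x, AdicCompletion.ext_evalₐ fun k => ?_⟩
    rw [evalₐ_complMap h k x _ (hx k), RingHom.id_apply, ← evalₐ_eq_of_le (hk k) y _ (ha _).symm]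

theorem finite_complMap {R : Type u} [CommRing R] [Algebra R S] (m : Ideal R) (n : Ideal S)
    (h : m.map (algebraMap R S) ≤ n) (N : ℕ) (hN : n ^ N ≤ m.map (algebraMap R S))
    [Module.Finite R (S ⧸ m.map (algebraMap R S))] :
    (FSch.complMap m n (algebraMap R S) h).Finite := by
  classical
  let J := m.map (algebraMap R S)
  obtain ⟨r, q, hq⟩ := Module.Finite.exists_fin (R := R) (M := S ⧸ J)
  choose s hs using fun i => Ideal.Quotient.mk_surjective (q i)
  let π : (Fin r → R) →ₗ[R] S := ∑ i, (LinearMap.proj i : (Fin r → R) →ₗ[R] R).smulRight (s i)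
  have hπ : ∀ t, π t = ∑ i, algebraMap R S (t i) * s i := fun t => by simp [π, Algebra.smul_def]
  have hgen : ∀ x : S, ∃ t, x - π t ∈ J := fun x => by
    have hx : Ideal.Quotient.mk J x ∈ Submodule.span R (Set.range q) := hq ▸ trivial
    obtain ⟨t, ht⟩ := (Submodule.mem_span_range_iff_exists_fun R).mp hx
    refine ⟨t, Ideal.Quotient.eq.mp ?_⟩
    rw [hπ, map_sum, ← ht]
    refine Finset.sum_congr rfl fun i _ => ?_
    rw [map_mul, hs, Algebra.smul_def]
    rfl
  have hstep : ∀ (k : ℕ) (x : S), x ∈ J ^ k → ∃ t : Fin r → R, (∀ i, t i ∈ m ^ k) ∧ x - π t ∈ J ^ (k + 1) := by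
    intro k x hx
    have hx' : x ∈ ((m ^ k).map (algebraMap R S)) := by rwa [Ideal.map_pow]
    induction hx' using Submodule.span_induction with
    | mem c hc =>
      obtain ⟨b, hb, rfl⟩ := hc
      obtain ⟨t, ht⟩ := hgen 1
      refine ⟨fun i => b * t i, fun i => Ideal.mul_mem_right _ _ hb, ?_⟩
      rw [show π (fun i => b * t i) = algebraMap R S b * π t from by
        rw [show (fun i => b * t i) = b • t from rfl, map_smul, Algebra.smul_def]]
      rw [show algebraMap R S b - algebraMap R S b * π t = algebraMap R S b * (1 - π t) by ring, pow_succ]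
      exact Ideal.mul_mem_mul (by rw [← Ideal.map_pow]; exact Ideal.mem_map_of_mem _ hb) ht
    | zero => exact ⟨0, fun i => zero_mem _, by rw [map_zero, sub_zero]; exact zero_mem _⟩
    | add c d hc hd ihc ihd =>
      obtain ⟨t, ht, ht'⟩ := ihc ((Ideal.map_pow _ m k).le hc)
      obtain ⟨t', ht₂, ht₂'⟩ := ihd ((Ideal.map_pow _ m k).le hd)
      exact ⟨t + t', fun i => add_mem (ht i) (ht₂ i), by
        rw [map_add, show c + d - (π t + π t') = (c - π t) + (d - π t') by ring]; exact add_mem ht' ht₂'⟩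
    | smul c d hd ihd =>
      obtain ⟨t, ht, ht'⟩ := ihd ((Ideal.map_pow _ m k).le hd)
      choose u hu using fun i => hgen (c * s i)
      refine ⟨∑ i, t i • u i, fun j => ?_, ?_⟩
      · rw [Finset.sum_apply]
        exact sum_mem fun i _ => Ideal.mul_mem_right _ _ (ht i)
      · rw [smul_eq_mul, map_sum, show c * d - ∑ i, π (t i • u i) =
            c * (d - π t) + ∑ i, algebraMap R S (t i) * (c * s i - π (u i)) from by
          have e1 : ∀ i, π (t i • u i) = algebraMap R S (t i) * π (u i) := fun i => by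
            rw [map_smul, Algebra.smul_def]
          rw [hπ t]
          simp only [e1, mul_sub, Finset.mul_sum, Finset.sum_sub_distrib, mul_left_comm c]
          abel]
        refine add_mem (Ideal.mul_mem_left _ c ht') (sum_mem fun i _ => ?_)
        rw [pow_succ]
        exact Ideal.mul_mem_mul (by rw [← Ideal.map_pow]; exact Ideal.mem_map_of_mem _ (ht i)) (hu i)
  have hpow : ∀ k, n ^ ((N + 1) * k) ≤ J ^ k := fun k => by
    rw [pow_mul]; exact Ideal.pow_right_mono ((Ideal.pow_le_pow_right N.le_succ).trans hN) k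
  have hk : ∀ k, k ≤ (N + 1) * k := fun k => Nat.le_mul_of_pos_left k N.succ_pos
  letI := (FSch.complMap m n (algebraMap R S) h).toAlgebra
  let F : (Fin r → AdicCompletion m R) →ₗ[AdicCompletion m R] AdicCompletion n S :=
    ∑ i, (LinearMap.proj i : (Fin r → AdicCompletion m R) →ₗ[AdicCompletion m R] AdicCompletion m R).smulRight
      (AdicCompletion.of n S (s i))
  change Module.Finite (AdicCompletion m R) (AdicCompletion n S)
  refine Module.Finite.of_surjective F fun y => ?_
  choose a ha using fun j => Ideal.Quotient.mk_surjective (AdicCompletion.evalₐ n j y)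
  have hnext : ∀ (k : ℕ) (p : {t : Fin r → R // a ((N + 1) * k) - π t ∈ J ^ k}),
      ∃ t' : {t : Fin r → R // a ((N + 1) * (k + 1)) - π t ∈ J ^ (k + 1)}, ∀ i, t'.1 i - p.1 i ∈ m ^ k := by
    intro k p
    have h1 : a ((N + 1) * (k + 1)) - π p.1 ∈ J ^ k := by
      rw [show a ((N + 1) * (k + 1)) - π p.1 = (a ((N + 1) * (k + 1)) - a ((N + 1) * k)) + (a ((N + 1) * k) - π p.1) by ring]
      refine add_mem (hpow k ?_) p.2
      rw [← Ideal.Quotient.eq, ha, ← evalₐ_eq_of_le (Nat.mul_le_mul_left _ k.le_succ) y _ (ha _).symm]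
    obtain ⟨t, ht, ht'⟩ := hstep k _ h1
    exact ⟨⟨p.1 + t, by rwa [map_add, ← sub_sub]⟩, fun i => by simpa using ht i⟩
  choose nx hnx using hnext
  let t : ∀ k, {t : Fin r → R // a ((N + 1) * k) - π t ∈ J ^ k} := fun k =>
    Nat.rec ⟨0, by rw [pow_zero, Ideal.one_eq_top]; trivial⟩ (fun k p => nx k p) k
  choose c hc using fun i => exists_lift m (fun k => (t k).1 i) fun k => hnx k (t k) i
  refine ⟨c, AdicCompletion.ext_evalₐ fun k => ?_⟩
  have hF : F c = ∑ i, FSch.complMap m n (algebraMap R S) h (c i) * AdicCompletion.of n S (s i) := by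
    simp only [F, LinearMap.sum_apply, LinearMap.smulRight_apply, LinearMap.proj_apply, Algebra.smul_def]
    rfl
  have hsum : AdicCompletion.evalₐ n k (F c) = Ideal.Quotient.mk _ (π (t k).1) := by
    rw [hF, map_sum, hπ, map_sum]
    refine Finset.sum_congr rfl fun i _ => ?_
    rw [map_mul, map_mul, evalₐ_complMap h k (c i) _ (hc i k), AdicCompletion.evalₐ_of]
  rw [hsum, evalₐ_eq_of_le (hk k) y _ (ha _).symm, eq_comm, Ideal.Quotient.eq]
  exact Ideal.pow_right_mono h k (t k).2

theorem exists_pow_le {R : Type u} [CommRing R] [IsLocalRing R] [IsLocalRing S] [Algebra R S]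
    (hJn : (maximalIdeal R).map (algebraMap R S) ≤ maximalIdeal S)
    [Module.Finite R (S ⧸ (maximalIdeal R).map (algebraMap R S))] :
    ∃ N : ℕ, maximalIdeal S ^ N ≤ (maximalIdeal R).map (algebraMap R S) := by
  let J := (maximalIdeal R).map (algebraMap R S)
  haveI : Nontrivial (S ⧸ J) := Ideal.Quotient.nontrivial_iff.2 fun h => (maximalIdeal.isMaximal S).ne_top (top_unique (h ▸ hJn))
  haveI : IsLocalRing (S ⧸ J) := IsLocalRing.of_surjective' _ Ideal.Quotient.mk_surjective
  have hfl : IsFiniteLength R (S ⧸ J) := MatlisLib.isFiniteLength_of_isTorsionBySet fun x r => by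
    obtain ⟨x, rfl⟩ := Ideal.Quotient.mk_surjective x
    change (r : R) • Ideal.Quotient.mk J x = 0
    rw [Algebra.smul_def, ← Ideal.Quotient.mk_algebraMap, ← map_mul]
    exact Ideal.Quotient.eq_zero_iff_mem.2 (Ideal.mul_mem_right _ _ (Ideal.mem_map_of_mem _ r.2))
  haveI : IsArtinian R (S ⧸ J) := (isFiniteLength_iff_isNoetherian_isArtinian.1 hfl).2
  haveI : IsArtinianRing (S ⧸ J) := isArtinian_of_tower R inferInstance
  obtain ⟨K, hK⟩ := IsArtinianRing.isNilpotent_jacobson_bot (R := S ⧸ J)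
  rw [IsLocalRing.jacobson_eq_maximalIdeal ⊥ bot_ne_top] at hK
  refine ⟨K, fun x hx => Ideal.Quotient.eq_zero_iff_mem.1 (Ideal.mem_bot.1 (?_ : _ ∈ (⊥ : Ideal (S ⧸ J))))⟩
  rw [← Ideal.zero_eq_bot, ← hK]
  haveI : IsLocalHom (Ideal.Quotient.mk J) := Ideal.Quotient.mk_surjective.isLocalHom _
  rw [← IsLocalRing.map_maximalIdeal_of_surjective _ Ideal.Quotient.mk_surjective, ← Ideal.map_pow]
  exact Ideal.mem_map_of_mem _ hx

theorem finite_quotient_of_finite_fiber {R : Type u} [CommRing R] [Algebra R S] (m : Ideal R) [m.IsMaximal]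
    [Module.Finite m.ResidueField (m.Fiber S)] : Module.Finite R (S ⧸ m.map (algebraMap R S)) := by
  let J := m.map (algebraMap R S)
  have hb := Ideal.bijective_algebraMap_quotient_residueField m
  haveI : Module.Finite R m.ResidueField := Module.Finite.of_surjective (Algebra.linearMap R m.ResidueField) fun z => by
    obtain ⟨w, rfl⟩ := hb.2 z
    obtain ⟨x, rfl⟩ := Ideal.Quotient.mk_surjective w
    exact ⟨x, (IsScalarTower.algebraMap_apply R (R ⧸ m) m.ResidueField x).symm ▸ rfl⟩
  haveI : Module.Finite R (m.Fiber S) := Module.Finite.trans m.ResidueField _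
  let e := RingEquiv.ofBijective (algebraMap (R ⧸ m) m.ResidueField) hb
  let α : m.ResidueField →ₐ[R] S ⧸ J :=
    { (Ideal.quotientMap J (algebraMap R S) Ideal.le_comap_map).comp e.symm.toRingHom with
      commutes' := fun x => by
        change Ideal.quotientMap J (algebraMap R S) Ideal.le_comap_map (e.symm (algebraMap R m.ResidueField x)) = _
        rw [show e.symm (algebraMap R m.ResidueField x) = Ideal.Quotient.mk m x from
          e.symm_apply_eq.mpr (IsScalarTower.algebraMap_apply R (R ⧸ m) m.ResidueField x), Ideal.quotientMap_mk]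
        rfl }
  let Φ : m.Fiber S →ₐ[R] S ⧸ J := Algebra.TensorProduct.productMap α (Ideal.Quotient.mkₐ R J)
  refine Module.Finite.of_surjective Φ.toLinearMap fun z => ?_
  obtain ⟨x, rfl⟩ := Ideal.Quotient.mk_surjective z
  refine ⟨((1 : m.ResidueField) ⊗ₜ[R] x : m.Fiber S), ?_⟩
  change Algebra.TensorProduct.productMap α (Ideal.Quotient.mkₐ R J) (1 ⊗ₜ[R] x) = _
  rw [Algebra.TensorProduct.productMap_apply_tmul, map_one, one_mul]
  rfl

end Groth.Agent.ComplFinLib
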